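import Groth.Agent.QuotTransLib.AffDiag
import Groth.Agent.IsoNatSepLib.Glue
import Groth.Agent.IsoNatBaldLib.Basic

/-!
# Stacks with quasi-affine diagonal over an affine base
-/

set_option autoImplicit false
set_option linter.style.haveILetI false
set_option backward.isDefEq.respectTransparency false
set_option backward.isDefEq.respectTransparency.types false

universe u

open CategoryTheory CategoryTheory.Limits AlgebraicGeometry AlgSp FibCat FibLib AlgStLib IsoNat IsoNatLib IsoNatSepLib Opposite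
open CategoryTheory.Functor (Fiber IsPreFibered IsStronglyCartesian)

noncomputable section

namespace QAffCovLib

variable {S : Scheme.{u}}

theorem bc_qa : StableBC (IsQuasiAffineMor : MorphismProperty (Sp S)) :=
  fun X₁ Y₁ X₂ Y₂ _ _ _ _ a b a' b' sq h Z hZ g => by
    obtain ⟨W, i, fst, sqW, hW⟩ := h hZ (g ≫ b)
    exact ⟨W, i, sq.lift fst ((yon S).map i ≫ g) (by rw [sqW.w, Category.assoc]),
      IsPullback.of_right (by rw [sq.lift_fst]; exact sqW) (sq.lift_snd _ _ _) sq, hW⟩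

theorem local_qa : IsLocalOnBase (IsFppfCover (S := S)) IsQuasiAffineMor :=
  isLocalOnBase_fppf_of_fpqc (AlgSpRegLib.isLocalOnBase_fpqc_isQuasiAffineMor S)

/-- A quasi-affine morphism followed by an affine one is quasi-affine. -/
theorem qa_comp_affine {A B C : Sp S} (a : A ⟶ B) (b : B ⟶ C) (ha : IsQuasiAffineMor a) (hb : IsAffineMor b) :
    IsQuasiAffineMor (a ≫ b) := fun Z hZ g => by
  obtain ⟨W, i, fst, sq, hW⟩ := hb hZ g
  obtain ⟨W', i', fst', sq', hW'⟩ := ha hW fst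
  refine ⟨W', i' ≫ i, fst', ?_, hW'⟩
  rw [Functor.map_comp]
  exact sq'.paste_vert sq

section

variable {𝒳 : AlgSt.Cat S} [IsFibGrpd 𝒳.p]

/-- Morphisms from schemes affine over an affine base to stacks with quasi-affine diagonal are quasi-affine. -/
theorem repByAlgSpWith_qa_of_diag [IsAffine S] (hΔ : AlgSt.RepByAlgSpWith IsQuasiAffineMor (diag (toSelf 𝒳)))
    {X : Over S} [IsAffine X.left] (w : overCat X ⥤ᵇ 𝒳) : AlgSt.RepByAlgSpWith IsQuasiAffineMor w := by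
  haveI := FibLib.isFibGrpd_overCat X
  haveI := isFibGrpd_of_repByAlgSp (repByAlgSp_selfOver (S := S))
  haveI : IsFibGrpd (fp (toSelf 𝒳) (toSelf 𝒳)).p := isFibGrpd_fp
  rw [repByAlgSpWith_iff]
  intro T u
  haveI := FibLib.isFibGrpd_overCat T
  let v : overCat T ⥤ᵇ 𝒳 := BasedFunctor.comp (AlgSt.ofOverCat T) u
  let p := BasedFunctor.comp v (toSelf 𝒳)
  let q := BasedFunctor.comp w (toSelf 𝒳)
  haveI : IsFibGrpd (fp p q).p := isFibGrpd_fp
  haveI : IsFibGrpd (fp v w).p := isFibGrpd_fp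
  have h1 : AlgSt.RepByAlgSpWith IsQuasiAffineMor (fpPush v w (toSelf 𝒳)) :=
    (repByAlgSpWith_square_iff (f := FibCat.fpFst (fpPair v w (toSelf 𝒳)) (diag (toSelf 𝒳)))
      (f' := fpPush v w (toSelf 𝒳)) (b := BasedFunctor.id _) (isEquivOver_fpMagic v w (toSelf 𝒳))
      (isEquivOver_id _) (Iso.refl _) IsQuasiAffineMor).mp
      (repByAlgSpWith_fpFst IsQuasiAffineMor (fpPair v w (toSelf 𝒳)) hΔ)
  have hq : AlgSt.RepByAlgSpWith IsAffineMor q := (repByAlgSpWith_iff _ _).mpr fun T' u' =>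
    ⟨_, _, IsAlgSpace.yon_obj _, QuotTransLib.along_prodFst q u', AlgSpLib.isAffineMor_iff.2
      ((repWith_yon_map_iff _ _).2 (by
        haveI : IsAffineHom X.hom := inferInstance
        change IsAffineHom (prod.fst : T' ⨯ X ⟶ T').left
        rw [← Over.prodLeftIsoPullback_hom_fst]
        haveI : IsAffineHom (pullback.fst T'.hom X.hom) := MorphismProperty.pullback_fst _ _ ‹_›
        infer_instance))⟩
  have h2 := repByAlgSpWith_fpFst IsAffineMor p hq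
  obtain ⟨K, a, hK, ha, hPa⟩ := (repByAlgSpWith_iff _ _).mp h2 T (AlgSt.toOverCat T)
  obtain ⟨r, hr⟩ := Along.comp (f := fpPush v w (toSelf 𝒳)) ha
  obtain ⟨H, b, hH, hb, hPb⟩ := exists_along_test bc_qa (schTest_of_fppf local_qa) h1 hK r
  refine ⟨H, b ≫ a, hH, ?_, qa_comp_affine b a hPb hPa⟩
  exact (Along.of_fpFst (g := v) ((hr b.hom hb).congr (Iso.refl _) (Iso.refl _))).congr (Iso.refl _) (Iso.refl _)

/-- The pullback of the diagonal along a pair of quasi-affine maps from affine schemes is quasi-affine. -/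
theorem repByAlgSpWith_qa_fpFst_pair [IsAffine S] {X Y : Over S} [IsAffine Y.left]
    (w : overCat X ⥤ᵇ 𝒳) (w' : overCat Y ⥤ᵇ 𝒳) (hw' : AlgSt.RepByAlgSpWith IsQuasiAffineMor w') :
    AlgSt.RepByAlgSpWith IsQuasiAffineMor (FibCat.fpFst (fpPair w w' (toSelf 𝒳)) (diag (toSelf 𝒳))) := by
  haveI := FibLib.isFibGrpd_overCat X
  haveI := FibLib.isFibGrpd_overCat Y
  haveI := isFibGrpd_of_repByAlgSp (repByAlgSp_selfOver (S := S))
  haveI : IsFibGrpd (fp (toSelf 𝒳) (toSelf 𝒳)).p := isFibGrpd_fp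
  let p := BasedFunctor.comp w (toSelf 𝒳)
  let q := BasedFunctor.comp w' (toSelf 𝒳)
  haveI : IsFibGrpd (fp p q).p := isFibGrpd_fp
  haveI : IsAffineHom Y.hom := inferInstance
  have hqs : (@IsImmersion ⊓ @QuasiCompact : MorphismProperty Scheme.{u}) (pullback.diagonal Y.hom) :=
    ⟨inferInstance, inferInstance⟩
  have h1 : AlgSt.RepByAlgSpWith IsQuasiAffineMor (fpPush w w' (toSelf 𝒳)) :=
    repByAlgSpWith_of_comp bc_qa (G := FibCat.fpFst p q)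
      (repByAlgSpWith_fpFst IsQuasiAffineMor w hw')
      (repByAlgSpWith_fpFst _ p (QuotTransLib.repByAlgSpWith_diagWith_toSelf (@IsImmersion ⊓ @QuasiCompact) hqs))
      fun _ _ _ _ _ _ a b hab hb => QuotTransLib.qaff_cancel a b hab hb
  exact (repByAlgSpWith_square_iff (f := FibCat.fpFst (fpPair w w' (toSelf 𝒳)) (diag (toSelf 𝒳)))
    (f' := fpPush w w' (toSelf 𝒳)) (b := BasedFunctor.id _) (isEquivOver_fpMagic w w' (toSelf 𝒳))
    (isEquivOver_id _) (Iso.refl _) IsQuasiAffineMor).mpr h1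

/-- An object is covered by the values of a smooth surjective chart. -/
theorem exists_chart {U : Over S} {x : overCat U ⥤ᵇ 𝒳} (hx : AlgSt.RepByAlgSpWith (LocP @Smooth) x)
    (hxs : AlgSt.RepByAlgSpWith IsSurjectiveMor x) {T : Over S} (y : 𝒳.p.Fiber T) :
    ∃ (T' : Over S) (c : T' ⟶ T) (f : T' ⟶ U) (k : x.obj (Over.mk f) ⟶ y.1),
      Smooth c.left ∧ Surjective c.left ∧ 𝒳.p.IsHomLift c k := by
  obtain ⟨K, aK, hK, ⟨hKs, hKsm⟩, -, ⟨D⟩⟩ :=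
    exists_classifier (repByAlgSpWith_inf (good_locP @Smooth : Good (LocP @Smooth : MorphismProperty (Sp S))).bc.precomp_iso
      hxs hx) y
  obtain ⟨T', b, hb, hbs⟩ := hK.atlas
  obtain ⟨c, hc⟩ := (yon S).map_surjective (b ≫ aK)
  haveI hcs : Smooth c.left := (AlgSpLib.locP_yon_map_iff (P := @Smooth) c).1
    (hc ▸ (good_locP @Smooth : Good (LocP @Smooth : MorphismProperty (Sp S))).comp (IsAlgSpace.yon_obj _) hK
      (IsAlgSpace.yon_obj _) _ _ (AlgSpLib.locP_mono (fun _ _ f (hf : Etale f) => (inferInstance : Smooth f))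
        (AlgSpLib.locP_of_repWith hb)) hKsm)
  have hsurj : Surjective c.left := ⟨fun t => by
    obtain ⟨k, hk⟩ := hKs (Points.schemeHomeo T t)
    obtain ⟨q, rfl⟩ := AlgSpLib.map_surjective_of_repWith hbs k
    obtain ⟨q, rfl⟩ := (Points.schemeHomeo T').surjective q
    exact ⟨q, (Points.schemeHomeo T).injective (by
      rw [← Points.map_yon_map_apply, hc, AlgSp.Points.map_comp, hk])⟩⟩
  obtain ⟨E, hE⟩ := D.exists_elt b
  have hbase : E.base = c := (yon S).map_injective (by rw [← D.cls_comp E, hE, hc])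
  have hl : E.obj.1.left = T' := E.obj.2
  let f : T' ⟶ U := eqToHom hl.symm ≫ E.obj.1.hom
  let m : Over.mk f ⟶ E.obj.1 := Over.homMk (eqToHom hl.symm) rfl
  refine ⟨T', c, f, x.map m ≫ E.map, hcs, hsurj, ?_⟩
  have h1 : 𝒳.p.IsHomLift (eqToHom hl.symm) (x.map m) := lift_map x m
  have h2 : 𝒳.p.IsHomLift (eqToHom hl ≫ c) (E.map : x.obj E.obj.1 ⟶ y.1) := by
    rw [← hbase]
    haveI := E.lift
    infer_instance
  exact lift_congr (by rw [eqToHom_trans_assoc, eqToHom_refl, Category.id_comp]) (comp_lift h1 h2)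

/-- Functors from a scheme whose values at the identity map to an object over the same map agree. -/
lemma nonempty_iso_of_homs {𝒵 : AlgSt.Cat S} [IsFibGrpd 𝒵.p] {O T : Over S} {c : O ⟶ T}
    (F G : AlgSt.ofSch O ⥤ᵇ 𝒵) {z : 𝒵.obj} (a : F.obj ⟨O, ⟨𝟙 O⟩⟩ ⟶ z) (ha : 𝒵.p.IsHomLift c a)
    (b : G.obj ⟨O, ⟨𝟙 O⟩⟩ ⟶ z) (hb : 𝒵.p.IsHomLift c b) : Nonempty (F ≅ G) := by
  obtain ⟨θ, hθ, -⟩ := exists_fac b hb a (lift_congr (Category.id_comp c).symm ha)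
  haveI := hθ
  haveI : IsIso θ := isIso_of_isHomLift 𝒵.p (𝟙 O) θ
  obtain ⟨γ⟩ := nonempty_iso_of_vert (BasedFunctor.comp (AlgSt.ofOverCat O) F)
    (BasedFunctor.comp (AlgSt.ofOverCat O) G) (asIso θ) hθ
  exact ⟨whiskerLeftIso' (AlgSt.toOverCat O) γ⟩

theorem repByAlgSpWith_qa_diag_of_cover [IsAffine S] (hΔ : AlgSt.RepByAlgSp1 (diag (toSelf 𝒳))) {U : Over S}
    {x : overCat U ⥤ᵇ 𝒳} (hx : AlgSt.RepByAlgSpWith (LocP @Smooth) x)
    (hxs : AlgSt.RepByAlgSpWith IsSurjectiveMor x)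
    (hqa : ∀ V : U.left.Opens, IsAffineOpen V → AlgSt.RepByAlgSpWith IsQuasiAffineMor
      (BasedFunctor.comp (AlgSt.overMap (Over.homMk V.ι rfl : Over.mk (V.ι ≫ U.hom) ⟶ U)) x)) :
    AlgSt.RepByAlgSpWith IsQuasiAffineMor (diag (toSelf 𝒳)) := by
  haveI := isFibGrpd_of_repByAlgSp (repByAlgSp_selfOver (S := S))
  haveI : IsFibGrpd (fp (toSelf 𝒳) (toSelf 𝒳)).p := isFibGrpd_fp
  refine repByAlgSpWith_of_forall hΔ fun T u H a hH ha => ?_
  let z : (fp (toSelf 𝒳) (toSelf 𝒳)).obj := u.obj ⟨T, ⟨𝟙 T⟩⟩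
  have hz : (fp (toSelf 𝒳) (toSelf 𝒳)).p.obj z = T := u.w_obj _
  let y₁ : 𝒳.p.Fiber T := Fiber.mk (p := 𝒳.p) (a := z.obj.fst) hz
  let y₂ : 𝒳.p.Fiber T := Fiber.mk (p := 𝒳.p) (a := z.obj.snd)
    (((fpSnd (toSelf 𝒳) (toSelf 𝒳)).w_obj z).trans hz)
  obtain ⟨T₁, c₁, f, k₁, hc₁, hs₁, hk₁⟩ := exists_chart hx hxs y₁
  obtain ⟨y₂', m, hm⟩ := IsoNatLib.exists_pullback c₁ y₂
  obtain ⟨T₂, c₂, g, k₂, hc₂, hs₂, hk₂⟩ := exists_chart hx hxs y₂'
  haveI := hc₁; haveI := hc₂; haveI := hs₁; haveI := hs₂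
  let c : T₂ ⟶ T := c₂ ≫ c₁
  haveI : Smooth c.left := inferInstanceAs (Smooth (c₂.left ≫ c₁.left))
  haveI : Surjective c.left := inferInstanceAs (Surjective (c₂.left ≫ c₁.left))
  let κ := U.left.affineOpens × U.left.affineOpens
  let O : κ → T₂.left.Opens := fun k => (c₂ ≫ f).left ⁻¹ᵁ k.1.1 ⊓ g.left ⁻¹ᵁ k.2.1
  let Ok : κ → Over S := fun k => Over.mk ((O k).ι ≫ T₂.hom)
  let ι : ∀ k, Ok k ⟶ T₂ := fun k => Over.homMk (O k).ι rfl
  haveI : ∀ k, Smooth ((ι k ≫ c).left) := fun k => inferInstanceAs (Smooth ((O k).ι ≫ c.left))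
  have hcov : IsFppfCover (fun k : κ => (yon S).obj (Ok k)) (fun k : κ => (yon S).map (ι k ≫ c)) := by
    refine ⟨fun k => ⟨(AlgSpLib.locP_yon_map_iff (P := @Flat) _).2 inferInstance,
      (AlgSpLib.locP_yon_map_iff (P := @LocallyOfFinitePresentation) _).2 inferInstance⟩, fun p => ?_⟩
    obtain ⟨t, rfl⟩ := (Points.schemeHomeo T).surjective p
    obtain ⟨t₂, rfl⟩ := (Surjective.surj (f := c.left)) t
    obtain ⟨V, hV, hV₁, -⟩ := exists_isAffineOpen_mem_and_subset (x := (c₂ ≫ f).left t₂) (U := ⊤) trivial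
    obtain ⟨V', hV', hV₂, -⟩ := exists_isAffineOpen_mem_and_subset (x := g.left t₂) (U := ⊤) trivial
    exact ⟨(⟨V, hV⟩, ⟨V', hV'⟩), Points.schemeHomeo _ (⟨t₂, hV₁, hV₂⟩ : O (⟨V, hV⟩, ⟨V', hV'⟩)),
      Points.map_yon_map_apply _ _⟩
  refine (local_qa _ (fun k : κ => (yon S).map (ι k ≫ c)) (IsAlgSpace.yon_obj T) (fun k => IsAlgSpace.yon_obj _)
    hcov a hH _ (fun k => pullback.snd a ((yon S).map (ι k ≫ c))) (fun k => pullback.fst a ((yon S).map (ι k ≫ c)))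
    (fun k => AlgSpLib.isAlgSpace_pullback hH (IsAlgSpace.yon_obj _) (IsAlgSpace.yon_obj _) _ _)
    (fun k => IsPullback.of_hasPullback _ _)).mpr fun k => ?_
  obtain ⟨⟨V, hV⟩, ⟨V', hV'⟩⟩ := k
  generalize hk : ((⟨V, hV⟩, ⟨V', hV'⟩) : κ) = k
  have hk1 : k.1.1 = V := by rw [← hk]
  have hk2 : k.2.1 = V' := by rw [← hk]
  let jV : Over.mk (V.ι ≫ U.hom) ⟶ U := Over.homMk V.ι rfl
  let jV' : Over.mk (V'.ι ≫ U.hom) ⟶ U := Over.homMk V'.ι rfl
  obtain ⟨f', hf'⟩ : ∃ f' : Ok k ⟶ Over.mk (V.ι ≫ U.hom), f' ≫ jV = ι k ≫ c₂ ≫ f := by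
    have hr : Set.range ((O k).ι ≫ (c₂ ≫ f).left) ⊆ Set.range V.ι := by
      rintro _ ⟨t, rfl⟩
      rw [Scheme.Opens.range_ι, ← hk1]
      exact t.2.1
    let l := IsOpenImmersion.lift V.ι ((O k).ι ≫ (c₂ ≫ f).left) hr
    have e : l ≫ V.ι = (O k).ι ≫ (c₂ ≫ f).left := IsOpenImmersion.lift_fac _ _ hr
    exact ⟨Over.homMk l (by
      change l ≫ V.ι ≫ U.hom = (O k).ι ≫ T₂.hom
      rw [reassoc_of% e, ← Over.w (c₂ ≫ f)]), Over.OverMorphism.ext e⟩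
  obtain ⟨g', hg'⟩ : ∃ g' : Ok k ⟶ Over.mk (V'.ι ≫ U.hom), g' ≫ jV' = ι k ≫ g := by
    have hr : Set.range ((O k).ι ≫ g.left) ⊆ Set.range V'.ι := by
      rintro _ ⟨t, rfl⟩
      rw [Scheme.Opens.range_ι, ← hk2]
      exact t.2.2
    let l := IsOpenImmersion.lift V'.ι ((O k).ι ≫ g.left) hr
    have e : l ≫ V'.ι = (O k).ι ≫ g.left := IsOpenImmersion.lift_fac _ _ hr
    exact ⟨Over.homMk l (by
      change l ≫ V'.ι ≫ U.hom = (O k).ι ≫ T₂.hom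
      rw [reassoc_of% e, ← Over.w g]), Over.OverMorphism.ext e⟩
  let w := BasedFunctor.comp (AlgSt.overMap jV) x
  let w' := BasedFunctor.comp (AlgSt.overMap jV') x
  haveI : IsAffine (Over.mk (V'.ι ≫ U.hom)).left := hV'
  haveI := FibLib.isFibGrpd_overCat (Over.mk (V.ι ≫ U.hom))
  haveI := FibLib.isFibGrpd_overCat (Over.mk (V'.ι ≫ U.hom))
  haveI : IsFibGrpd (fp (BasedFunctor.comp w (toSelf 𝒳)) (BasedFunctor.comp w' (toSelf 𝒳))).p := isFibGrpd_fp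
  have hpair := repByAlgSpWith_qa_fpFst_pair (𝒳 := 𝒳) w w' (hqa V' hV')
  -- the point of the pair over the open
  let o₁ : (overCat (Over.mk (V.ι ≫ U.hom))).obj := Over.mk f'
  let o₂ : (overCat (Over.mk (V'.ι ≫ U.hom))).obj := Over.mk g'
  have e₁ : (BasedFunctor.comp w (toSelf 𝒳)).obj o₁ = Ok k := w.w_obj o₁
  have e₂ : (BasedFunctor.comp w' (toSelf 𝒳)).obj o₂ = Ok k := w'.w_obj o₂
  let η : (fp (BasedFunctor.comp w (toSelf 𝒳)) (BasedFunctor.comp w' (toSelf 𝒳))).obj :=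
    fpObj o₁ o₂ (eqToIso (e₁.trans e₂.symm)) (IsHomLift.eqToHom_domain_lift_id (p := (selfOver (Over S)).p) (e₁.trans e₂.symm) e₁)
  let ηf : (fp (BasedFunctor.comp w (toSelf 𝒳)) (BasedFunctor.comp w' (toSelf 𝒳))).p.Fiber (Ok k) :=
    Fiber.mk (p := (fp (BasedFunctor.comp w (toSelf 𝒳)) (BasedFunctor.comp w' (toSelf 𝒳))).p) (a := η) rfl
  obtain ⟨H', a', hH', ha', hP'⟩ := (repByAlgSpWith_iff _ _).mp hpair (Ok k) (uf ηf)
  have h2 := Along.of_fpFst ha'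
  have h3 := ha.of_isPullback (isPullback_sheaf (IsPullback.of_hasPullback a ((yon S).map (ι k ≫ c))))
  -- both pairs map to the given one
  let m₁ : (AlgSt.overMap jV).obj o₁ ⟶ Over.mk f := Over.homMk (ι k ≫ c₂) (by
    change (ι k ≫ c₂) ≫ f = f' ≫ jV
    rw [hf', Category.assoc])
  let m₂ : (AlgSt.overMap jV').obj o₂ ⟶ Over.mk g := Over.homMk (ι k) hg'.symm
  have hm₁ : 𝒳.p.IsHomLift (ι k ≫ c₂) (x.map m₁) := lift_map x m₁
  have hm₂ : 𝒳.p.IsHomLift (ι k) (x.map m₂) := lift_map x m₂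
  let a₁ : x.obj ((AlgSt.overMap jV).obj o₁) ⟶ y₁.1 := x.map m₁ ≫ k₁
  let a₂ : x.obj ((AlgSt.overMap jV').obj o₂) ⟶ y₂.1 := x.map m₂ ≫ k₂ ≫ m
  have ha₁ : 𝒳.p.IsHomLift (ι k ≫ c) a₁ := lift_congr (Category.assoc _ _ _) (comp_lift hm₁ hk₁)
  have ha₂ : 𝒳.p.IsHomLift (ι k ≫ c) a₂ := comp_lift hm₂ (comp_lift hk₂ hm)
  let M : (fpPair w w' (toSelf 𝒳)).obj η ⟶ z := fpHom a₁ a₂ (by
    rw [fpPair_obj_iso]
    change 𝒳.p.map a₁ ≫ z.obj.iso.hom = eqToHom (e₁.trans e₂.symm) ≫ 𝒳.p.map a₂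
    rw [@IsHomLift.fac' _ _ _ _ 𝒳.p _ _ _ _ (ι k ≫ c) a₁ ha₁, @IsHomLift.fac' _ _ _ _ 𝒳.p _ _ _ _ (ι k ≫ c) a₂ ha₂]
    have hi : z.obj.iso.hom = eqToHom (hz.trans y₂.2.symm) := by
      exact (@IsHomLift.fac' _ _ _ _ (selfOver (Over S)).p _ _ _ _ (𝟙 (𝒳.p.obj z.obj.fst)) z.obj.iso.hom z.property).trans
        (by simp)
    rw [hi]
    simp)
  have hM : (fp (toSelf 𝒳) (toSelf 𝒳)).p.IsHomLift (ι k ≫ c) M := by
    haveI : 𝒳.p.IsHomLift (ι k ≫ c) M.hom.fst := ha₁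
    exact isHomLift_of_fst _ _
  let mo : (Stk.ofPshMap ((yon S).map (ι k ≫ c)).hom).obj (⟨Ok k, ⟨𝟙 (Ok k)⟩⟩ : (AlgSt.ofSch (Ok k)).obj) ⟶
      (⟨T, ⟨𝟙 T⟩⟩ : (AlgSt.ofSch T).obj) := ⟨ι k ≫ c, by
    change ULift.up _ = ULift.up _
    apply ULift.down_injective
    simp⟩
  obtain ⟨γ⟩ : Nonempty (BasedFunctor.comp (uf ηf) (fpPair w w' (toSelf 𝒳)) ≅
      BasedFunctor.comp (Stk.ofPshMap ((yon S).map (ι k ≫ c)).hom) u) := by
    refine nonempty_iso_of_homs (c := ι k ≫ c) _ _ ((fpPair w w' (toSelf 𝒳)).map (pbm ηf (𝟙 (Ok k))) ≫ M)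
      (lift_congr (Category.id_comp _) (comp_lift (fun_lift (fpPair w w' (toSelf 𝒳)) (pbm_lift (z := ηf) (𝟙 (Ok k)))) hM))
      (u.map mo) ?_
    exact fun_lift u (IsHomLift.map (AlgSt.ofSch T).p mo)
  obtain ⟨i, hi⟩ := along_hom_unique h3 (h2.congr γ (Iso.refl _))
  rw [← hi]
  exact bc_qa.precomp_iso i a' hH' (IsAlgSpace.yon_obj _) hP'

end

end QAffCovLib
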